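import Cfsg.Agent.H160.QSpin
import Cfsg.Agent.H208.SimForm
import Cfsg.Agent.LieClassical.OrthFinite
import Cfsg.Agent.Prune
set_option linter.all false
prune_inst 0x7f00000000000000000000000000000000000000000000000000000000000000000000000000000000000000000000000000000000000000000000000000000000000000000000000000000000000000003fffffffffffffffffffffffffffbeffbdffffffff
open scoped Cfsg.Agent.FastGrp

/-!
# Corrections by similitudes (S4822, helper35)

`F` a finite field of odd characteristic.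

* `mem_E_of` : isometries of determinant one and spinor sign one are in `E Q`;
* `spin_conj` : `b` a similitude with nonsquare factor, `t` an isometry with `det t = -1`: `spin (b t b⁻¹) = - spin t`.
-/

set_option autoImplicit false
set_option linter.unusedSectionVars false

namespace Cfsg.Agent.H35.KB

open QuadraticMap Module Cfsg.Agent.LieClassical.OrthCore Cfsg.Agent.LieClassical.OrthTrans
open Cfsg.Agent.H160.QSpin
open Cfsg.Agent.LieClassical.OrthFinite (good_of_finite)

variable {F V : Type*} [Field F] [AddCommGroup V] [Module F V] {Q : QuadraticForm F V}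

theorem mem_E_of [Finite F] [Finite V] [FiniteDimensional F V] (hG : Good Q) (h2 : (2 : F) ≠ 0) {g : V ≃ₗ[F] V}
    (hg : g ∈ O Q) (hd : LinearEquiv.det g = 1) (hs : spin Q ⟨g, hg⟩ = 1) : g ∈ E Q := by
  obtain ⟨Q', e, he⟩ := exists_iso_fin Q
  have hG' : Good Q' := by
    refine good_of_finite (he.nondeg hG.nondeg) ?_
    rw [← e.finrank_eq]
    exact hG.dim
  have h1 : cj e g ∈ E Q' := by
    rw [Cfsg.Agent.FooteOrth.mem_E_iff hG' h2 (cj_mem_O he hg)]
    refine ⟨by rw [det_cj, hd], ?_⟩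
    rw [← spin_eq_sg, spin_cj he hg, hs]
  have h3 := Cfsg.Agent.H208.SimForm.cT_mem_E (Q := Q) (Q' := Q') (T := e.symm) (e := 1) one_ne_zero (fun v => by
    rw [one_mul, ← he, LinearEquiv.apply_symm_apply]) h1
  have h4 : Cfsg.Agent.H208.SimForm.cT e.symm (cj e g) = g := by
    ext v
    change e.symm (e (g (e.symm (e v)))) = g v
    rw [LinearEquiv.symm_apply_apply, LinearEquiv.symm_apply_apply]
  rwa [h4] at h3

/-! ### conjugation by a similitude -/

section sim

variable {b : V ≃ₗ[F] V} {a : F}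

theorem conj_mem_O_of_sim (ha : a ≠ 0) (hb : ∀ v, Q (b v) = a * Q v) {t : V ≃ₗ[F] V} (ht : t ∈ O Q) :
    b * t * b⁻¹ ∈ O Q := by
  intro v
  obtain ⟨v, rfl⟩ := b.surjective v
  have h1 : (b * t * b⁻¹) (b v) = b (t v) := by
    change b (t (b.symm (b v))) = _
    rw [LinearEquiv.symm_apply_apply]
  rw [h1, hb, hb, mem_O.1 ht]

theorem conj_refl_of_sim (ha : a ≠ 0) (hb : ∀ v, Q (b v) = a * Q v) {v : V} (hv : Q v ≠ 0) (hv' : Q (b v) ≠ 0) :
    b * refl Q v hv * b⁻¹ = refl Q (b v) hv' := by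
  ext x
  obtain ⟨x, rfl⟩ := b.surjective x
  have h1 : (b * refl Q v hv * b⁻¹) (b x) = b (refl Q v hv x) := by
    change b (refl Q v hv (b.symm (b x))) = _
    rw [LinearEquiv.symm_apply_apply]
  rw [h1, refl_apply, refl_apply, map_sub, map_smul, Cfsg.Agent.H208.SimForm.polar_sim hb, hb]
  congr 2
  field_simp

theorem isSquare_mul_iff [Finite F] (ha : ¬ IsSquare a) {c : F} (hc : c ≠ 0) :
    IsSquare (a * c) ↔ ¬ IsSquare c := by
  classical
  let _ : Fintype F := Fintype.ofFinite F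
  have ha0 : a ≠ 0 := by
    rintro rfl
    exact ha ⟨0, by simp⟩
  have h2 : ringChar F ≠ 2 := by
    intro h
    exact ha (FiniteField.isSquare_of_char_two h a)
  have h3 := quadraticChar_neg_one_iff_not_isSquare.2 ha
  constructor
  · intro h4 h5
    have h6 := (quadraticChar_one_iff_isSquare (mul_ne_zero ha0 hc)).2 h4
    rw [map_mul, h3, (quadraticChar_one_iff_isSquare hc).2 h5] at h6
    norm_num at h6
  · intro h5
    have h6 := quadraticChar_neg_one_iff_not_isSquare.2 h5
    rw [← quadraticChar_one_iff_isSquare (mul_ne_zero ha0 hc), map_mul, h3, h6]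
    norm_num

/-- **conjugation by a similitude with nonsquare factor** -/
theorem spin_conj [Finite F] [Finite V] [FiniteDimensional F V] (h2 : (2 : F) ≠ 0) (hQ : Nondeg Q) (ha : ¬ IsSquare a)
    (hb : ∀ v, Q (b v) = a * Q v) {t : V ≃ₗ[F] V} (ht : t ∈ O Q) (ht' : b * t * b⁻¹ ∈ O Q) :
    (LinearEquiv.det t = 1 ∧ spin Q ⟨b * t * b⁻¹, ht'⟩ = spin Q ⟨t, ht⟩) ∨
      (LinearEquiv.det t = -1 ∧ spin Q ⟨b * t * b⁻¹, ht'⟩ = - spin Q ⟨t, ht⟩) := by
  classical
  have ha0 : a ≠ 0 := by
    rintro rfl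
    exact ha ⟨0, by simp⟩
  let β : O Q →* O Q :=
    { toFun := fun t => ⟨b * t.1 * b⁻¹, conj_mem_O_of_sim ha0 hb t.2⟩
      map_one' := Subtype.ext (by simp)
      map_mul' := fun t s => Subtype.ext (by simp [mul_assoc]) }
  let P : O Q → Prop := fun t => (LinearEquiv.det (t : V ≃ₗ[F] V) = 1 ∧ spin Q (β t) = spin Q t) ∨
      (LinearEquiv.det (t : V ≃ₗ[F] V) = -1 ∧ spin Q (β t) = - spin Q t)
  have hmul : ∀ s t, P s → P t → P (s * t) := by
    intro s t hs ht
    have h3 : LinearEquiv.det ((s * t : O Q) : V ≃ₗ[F] V) = LinearEquiv.det (s : V ≃ₗ[F] V) * LinearEquiv.det (t : V ≃ₗ[F] V) :=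
      map_mul _ _ _
    rcases hs with ⟨h4, h5⟩ | ⟨h4, h5⟩ <;> rcases ht with ⟨h6, h7⟩ | ⟨h6, h7⟩
    · left
      rw [h3, h4, h6, map_mul, map_mul, map_mul, h5, h7, mul_one]
      exact ⟨rfl, rfl⟩
    · right
      rw [h3, h4, h6, map_mul, map_mul, map_mul, h5, h7, one_mul, mul_neg]
      exact ⟨rfl, rfl⟩
    · right
      rw [h3, h4, h6, map_mul, map_mul, map_mul, h5, h7, mul_one, neg_mul]
      exact ⟨rfl, rfl⟩
    · left
      rw [h3, h4, h6, map_mul, map_mul, map_mul, h5, h7, neg_mul_neg, neg_mul_neg, mul_one]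
      exact ⟨rfl, rfl⟩
  have hinv : ∀ s, P s → P s⁻¹ := by
    intro s hs
    have h3 : LinearEquiv.det ((s⁻¹ : O Q) : V ≃ₗ[F] V) = (LinearEquiv.det (s : V ≃ₗ[F] V))⁻¹ :=
      map_inv _ _
    rcases hs with ⟨h4, h5⟩ | ⟨h4, h5⟩
    · left
      rw [h3, h4, map_inv, map_inv, map_inv, h5, inv_one]
      exact ⟨rfl, rfl⟩
    · right
      rw [h3, h4, map_inv, map_inv, map_inv, h5, inv_neg, inv_neg, inv_one]
      exact ⟨rfl, rfl⟩
  have hcl : O Q = Subgroup.closure (reflSet Q ∪ siegelSet Q) := O_eq_closure hQ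
  have key : ∀ g ∈ Subgroup.closure (reflSet Q ∪ siegelSet Q), ∀ hg : g ∈ O Q, P ⟨g, hg⟩ := by
    intro g hgc
    induction hgc using Subgroup.closure_induction with
    | mem x hx =>
      intro hxO
      rcases hx with ⟨v, hv, rfl⟩ | ⟨u, w, hu, hw, rfl⟩
      · have hv' : Q (b v) ≠ 0 := by
          rw [hb]
          exact mul_ne_zero ha0 hv
        have h3 : β ⟨refl Q v hv, hxO⟩ = ⟨refl Q (b v) hv', refl_mem_O hv'⟩ := Subtype.ext (conj_refl_of_sim ha0 hb hv hv')
        right
        refine ⟨det_refl hv, ?_⟩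
        rw [h3, spin_refl h2, spin_refl h2, hb]
        by_cases h4 : IsSquare (Q v)
        · rw [if_pos h4, if_neg (by rw [isSquare_mul_iff ha hv]; exact fun h => h h4), neg_neg]
        · rw [if_neg h4, if_pos (by rw [isSquare_mul_iff ha hv]; exact h4)]
      · obtain ⟨k, hk, hk2⟩ := siegel_eq_sq h2 hu hw
        have h3 : (⟨siegel Q u w hu hw, hxO⟩ : O Q) = ⟨k, hk⟩ * ⟨k, hk⟩ := Subtype.ext hk2
        left
        rw [h3]
        refine ⟨?_, ?_⟩
        · have h4 := det_sq hQ hk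
          change LinearEquiv.det (k * k) = 1
          rw [map_mul, ← pow_two, h4]
        · rw [map_mul, map_mul, map_mul, units_sq, units_sq]
    | one =>
      intro h1
      left
      refine ⟨map_one _, ?_⟩
      have : (⟨1, h1⟩ : O Q) = 1 := rfl
      rw [this, map_one, map_one]
    | mul x y hx hy ihx ihy =>
      intro hxy
      have hx' : x ∈ O Q := by rw [hcl]; exact hx
      have hy' : y ∈ O Q := by rw [hcl]; exact hy
      exact hmul _ _ (ihx hx') (ihy hy')
    | inv x hx ihx =>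
      intro hxi
      have hx' : x ∈ O Q := by rw [hcl]; exact hx
      exact hinv _ (ihx hx')
  exact key t (by rw [← hcl]; exact ht) ht

end sim

end Cfsg.Agent.H35.KB
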